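import Groth.Prelude.Def_W4stkremschemesLRS
import Mathlib.Geometry.RingedSpace.LocallyRingedSpace
import Mathlib.Geometry.RingedSpace.SheafedSpace
import Mathlib.Geometry.RingedSpace.Stalks
import Mathlib.Topology.Sheaves.SheafCondition.UniqueGluing
import Mathlib.Topology.Sheaves.CommRingCat
import Mathlib.Algebra.Category.Ring.Limits
import Mathlib.Algebra.Category.Ring.FilteredColimits

/-!
# Universal property of closed immersions of locally ringed spaces
-/

set_option autoImplicit false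

universe u

open CategoryTheory TopologicalSpace Opposite AlgebraicGeometry

noncomputable section

namespace Groth.Agent.LRSImm94

variable {Z X Y : LocallyRingedSpace.{u}}

theorem lift_of_isLocallySurjective (i : Z ⟶ X)
    (h : TopCat.Presheaf.IsLocallySurjective i.c) (U : Opens X.toTopCat)
    (t : Z.presheaf.obj (op ((Opens.map i.base).obj U))) (x : X.toTopCat) (hx : x ∈ U) :
    ∃ (W : Opens X.toTopCat) (hW : W ≤ U) (_ : x ∈ W) (s : X.presheaf.obj (op W)),
      i.c.app (op W) s = Z.presheaf.map ((Opens.map i.base).map (homOfLE hW)).op t := by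
  obtain ⟨W, hW, ⟨s, hs⟩, hxW⟩ := (TopCat.Presheaf.isLocallySurjective_iff _).mp h U t x hx
  exact ⟨W, hW, hxW, s, hs⟩

theorem stalkMap_surjective (i : Z ⟶ X) (hi : LRSImm.IsClosedImmersion i) (z : Z.toTopCat) :
    Function.Surjective (i.stalkMap z) := by
  intro a
  obtain ⟨V, hzV, t, rfl⟩ := Z.presheaf.exists_germ_eq a
  obtain ⟨U, hU, hUV⟩ := hi.1.isInducing.isOpen_iff.mp V.isOpen
  have hle : (Opens.map i.base).obj ⟨U, hU⟩ ≤ V := fun w hw => hUV.le hw
  obtain ⟨W, hW, hzW, s, hs⟩ := lift_of_isLocallySurjective i hi.2.1 ⟨U, hU⟩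
    (Z.presheaf.map (homOfLE hle).op t) (i.base z) (hUV.ge hzV)
  refine ⟨X.presheaf.germ W _ hzW s, ?_⟩
  rw [LocallyRingedSpace.stalkMap_germ_apply, hs]
  exact (TopCat.Presheaf.germ_res_apply _ _ _ _ _).trans
    (TopCat.Presheaf.germ_res_apply _ _ _ _ _)

theorem mono_of_isClosedImmersion (i : Z ⟶ X) (hi : LRSImm.IsClosedImmersion i) : Mono i := by
  haveI : Mono (LocallyRingedSpace.forgetToSheafedSpace.map i) :=
    SheafedSpace.mono_of_base_injective_of_stalk_epi _ hi.1.injective
      fun z => ConcreteCategory.epi_of_surjective _ (stalkMap_surjective i hi z)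
  exact LocallyRingedSpace.forgetToSheafedSpace.mono_of_mono_map this

/-- Sections killed by `i` are killed by `f`. -/
def Kills (i : Z ⟶ X) (f : Y ⟶ X) : Prop :=
  ∀ (U : Opens X.toTopCat) (s : X.presheaf.obj (op U)),
    i.c.app (op U) s = 0 → f.c.app (op U) s = 0

theorem kills_of_fac (i : Z ⟶ X) (g : Y ⟶ Z) : Kills i (g ≫ i) := by
  intro U s hs
  change g.c.app (op ((Opens.map i.base).obj U)) (i.c.app (op U) s) = 0
  rw [hs, map_zero]

variable {i : Z ⟶ X} {f : Y ⟶ X}

theorem Kills.base_mem_range (hk : Kills i f) (hi : LRSImm.IsClosedImmersion i) (y : Y.toTopCat) :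
    f.base y ∈ Set.range i.base := by
  by_contra hy
  let U : Opens X.toTopCat := ⟨(Set.range i.base)ᶜ, hi.1.isClosed_range.isOpen_compl⟩
  have hbot : (Opens.map i.base).obj U = ⊥ := by
    ext z
    exact ⟨fun h => (h ⟨z, rfl⟩).elim, False.elim⟩
  have : Subsingleton (Z.presheaf.obj (op ((Opens.map i.base).obj U))) := by
    rw [hbot]
    exact CommRingCat.subsingleton_of_isTerminal Z.sheaf.isTerminalOfEmpty
  have h1 := hk U 1 (@Subsingleton.elim _ this _ _)
  have h2 := congrArg (Y.presheaf.germ ((Opens.map f.base).obj U) y hy) h1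
  rw [map_one, map_one, map_zero] at h2
  exact one_ne_zero h2

/-- `w` extends `t` along `f`. -/
def IsExt (i : Z ⟶ X) (f : Y ⟶ X) (U : Opens X.toTopCat)
    (t : Z.presheaf.obj (op ((Opens.map i.base).obj U)))
    (w : Y.presheaf.obj (op ((Opens.map f.base).obj U))) : Prop :=
  ∀ (W : Opens X.toTopCat) (hW : W ≤ U) (s : X.presheaf.obj (op W)),
    i.c.app (op W) s = Z.presheaf.map ((Opens.map i.base).map (homOfLE hW)).op t →
    Y.presheaf.map ((Opens.map f.base).map (homOfLE hW)).op w = f.c.app (op W) s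

theorem natural_c_apply (i : Z ⟶ X) {W W' : Opens X.toTopCat} (h : W' ≤ W)
    (s : X.presheaf.obj (op W)) :
    i.c.app (op W') (X.presheaf.map (homOfLE h).op s) =
      Z.presheaf.map ((Opens.map i.base).map (homOfLE h)).op (i.c.app (op W) s) :=
  NatTrans.naturality_apply i.c (homOfLE h).op s

theorem map_map_apply {T : TopCat.{u}} (F : T.Presheaf CommRingCat.{u}) {A B C : Opens T}
    (f : B ⟶ A) (g : C ⟶ B) (h : C ⟶ A) (x : F.obj (op A)) :
    F.map g.op (F.map f.op x) = F.map h.op x := by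
  rw [← ConcreteCategory.comp_apply, ← F.map_comp]
  rfl

theorem isExt_unique (hi : LRSImm.IsClosedImmersion i) {U : Opens X.toTopCat}
    {t : Z.presheaf.obj (op ((Opens.map i.base).obj U))}
    {w w' : Y.presheaf.obj (op ((Opens.map f.base).obj U))}
    (h : IsExt i f U t w) (h' : IsExt i f U t w') : w = w' := by
  choose W hW hxW s hs using lift_of_isLocallySurjective i hi.2.1 U t
  refine Y.sheaf.eq_of_locally_eq' (fun x : U => (Opens.map f.base).obj (W x.1 x.2)) _
    (fun x => (Opens.map f.base).map (homOfLE (hW x.1 x.2))) ?_ w w' fun x => ?_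
  · intro y hy
    exact Opens.mem_iSup.mpr ⟨⟨f.base y, hy⟩, hxW _ hy⟩
  · exact (h _ _ _ (hs x.1 x.2)).trans (h' _ _ _ (hs x.1 x.2)).symm

theorem isExt_exists (hk : Kills i f) (hi : LRSImm.IsClosedImmersion i) (U : Opens X.toTopCat)
    (t : Z.presheaf.obj (op ((Opens.map i.base).obj U))) :
    ∃ w, IsExt i f U t w := by
  let ι := Σ' (W : Opens X.toTopCat) (hW : W ≤ U), { s : X.presheaf.obj (op W) //
    i.c.app (op W) s = Z.presheaf.map ((Opens.map i.base).map (homOfLE hW)).op t }
  obtain ⟨w, hw, -⟩ := Y.sheaf.existsUnique_gluing'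
    (fun a : ι => (Opens.map f.base).obj a.1) ((Opens.map f.base).obj U)
    (fun a => (Opens.map f.base).map (homOfLE a.2.1))
    (fun y hy => by
      obtain ⟨W, hW, hxW, s, hs⟩ := lift_of_isLocallySurjective i hi.2.1 U t (f.base y) hy
      exact Opens.mem_iSup.mpr ⟨⟨W, hW, s, hs⟩, hxW⟩)
    (fun a => f.c.app (op a.1) a.2.2.1) (fun a b => by
      have key : f.c.app (op (a.1 ⊓ b.1)) (X.presheaf.map (homOfLE inf_le_left).op a.2.2.1) =
          f.c.app (op (a.1 ⊓ b.1)) (X.presheaf.map (homOfLE inf_le_right).op b.2.2.1) := by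
        rw [← sub_eq_zero, ← map_sub]
        refine hk _ _ ?_
        rw [map_sub, natural_c_apply, natural_c_apply, a.2.2.2, b.2.2.2,
          map_map_apply Z.presheaf _ _ ((Opens.map i.base).map
            (homOfLE (inf_le_left.trans a.2.1))),
          map_map_apply Z.presheaf _ _ ((Opens.map i.base).map
            (homOfLE (inf_le_left.trans a.2.1))), sub_self]
      rw [natural_c_apply, natural_c_apply] at key
      exact key)
  exact ⟨w, fun W hW s hs => hw ⟨W, hW, s, hs⟩⟩

theorem isExt_mul (hk : Kills i f) (hi : LRSImm.IsClosedImmersion i) {U : Opens X.toTopCat}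
    {t t' : Z.presheaf.obj (op ((Opens.map i.base).obj U))}
    {w w' : Y.presheaf.obj (op ((Opens.map f.base).obj U))}
    (h : IsExt i f U t w) (h' : IsExt i f U t' w') : IsExt i f U (t * t') (w * w') := by
  intro W hW s hs
  choose W₁ h₁ hy₁ s₁ hs₁ using lift_of_isLocallySurjective i hi.2.1 U t
  choose W₂ h₂ hy₂ s₂ hs₂ using lift_of_isLocallySurjective i hi.2.1 U t'
  refine Y.sheaf.eq_of_locally_eq'
    (fun x : W => (Opens.map f.base).obj (W ⊓ (W₁ x.1 (hW x.2) ⊓ W₂ x.1 (hW x.2)))) _
    (fun x => (Opens.map f.base).map (homOfLE inf_le_left)) ?_ _ _ fun x => ?_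
  · intro y hy
    exact Opens.mem_iSup.mpr ⟨⟨f.base y, hy⟩, hy, hy₁ _ _, hy₂ _ _⟩
  · have hV₀ : (W ⊓ (W₁ x.1 (hW x.2) ⊓ W₂ x.1 (hW x.2))) ≤ W := inf_le_left
    have hV₁ : (W ⊓ (W₁ x.1 (hW x.2) ⊓ W₂ x.1 (hW x.2))) ≤ W₁ x.1 (hW x.2) := inf_le_right.trans inf_le_left
    have hV₂ : (W ⊓ (W₁ x.1 (hW x.2) ⊓ W₂ x.1 (hW x.2))) ≤ W₂ x.1 (hW x.2) := inf_le_right.trans inf_le_right
    have e₁ : i.c.app (op (W ⊓ (W₁ x.1 (hW x.2) ⊓ W₂ x.1 (hW x.2)))) (X.presheaf.map (homOfLE hV₁).op (s₁ x.1 (hW x.2))) =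
        Z.presheaf.map ((Opens.map i.base).map (homOfLE (hV₀.trans hW))).op t := by
      rw [natural_c_apply, hs₁]
      exact map_map_apply _ _ _ _ _
    have e₂ : i.c.app (op (W ⊓ (W₁ x.1 (hW x.2) ⊓ W₂ x.1 (hW x.2)))) (X.presheaf.map (homOfLE hV₂).op (s₂ x.1 (hW x.2))) =
        Z.presheaf.map ((Opens.map i.base).map (homOfLE (hV₀.trans hW))).op t' := by
      rw [natural_c_apply, hs₂]
      exact map_map_apply _ _ _ _ _
    change Y.presheaf.map _ (Y.presheaf.map _ _) = Y.presheaf.map _ _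
    rw [map_map_apply Y.presheaf _ _ ((Opens.map f.base).map (homOfLE (hV₀.trans hW))),
      map_mul, h _ _ _ e₁, h' _ _ _ e₂, ← natural_c_apply, ← map_mul, ← sub_eq_zero, ← map_sub]
    refine hk _ _ ?_
    rw [map_sub, map_mul, e₁, e₂, natural_c_apply, hs,
      map_map_apply Z.presheaf _ _ ((Opens.map i.base).map (homOfLE (hV₀.trans hW))),
      map_mul, sub_self]

theorem isExt_add (hk : Kills i f) (hi : LRSImm.IsClosedImmersion i) {U : Opens X.toTopCat}
    {t t' : Z.presheaf.obj (op ((Opens.map i.base).obj U))}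
    {w w' : Y.presheaf.obj (op ((Opens.map f.base).obj U))}
    (h : IsExt i f U t w) (h' : IsExt i f U t' w') : IsExt i f U (t + t') (w + w') := by
  intro W hW s hs
  choose W₁ h₁ hy₁ s₁ hs₁ using lift_of_isLocallySurjective i hi.2.1 U t
  refine Y.sheaf.eq_of_locally_eq'
    (fun x : W => (Opens.map f.base).obj (W ⊓ W₁ x.1 (hW x.2))) _
    (fun x => (Opens.map f.base).map (homOfLE inf_le_left)) ?_ _ _ fun x => ?_
  · intro y hy
    exact Opens.mem_iSup.mpr ⟨⟨f.base y, hy⟩, hy, hy₁ _ _⟩
  · have hV₀ : (W ⊓ W₁ x.1 (hW x.2)) ≤ W := inf_le_left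
    have hV₁ : (W ⊓ W₁ x.1 (hW x.2)) ≤ W₁ x.1 (hW x.2) := inf_le_right
    have e₁ : i.c.app (op (W ⊓ W₁ x.1 (hW x.2))) (X.presheaf.map (homOfLE hV₁).op (s₁ x.1 (hW x.2))) =
        Z.presheaf.map ((Opens.map i.base).map (homOfLE (hV₀.trans hW))).op t := by
      rw [natural_c_apply, hs₁]
      exact map_map_apply _ _ _ _ _
    have e₂ : i.c.app (op (W ⊓ W₁ x.1 (hW x.2))) (X.presheaf.map (homOfLE hV₀).op s -
        X.presheaf.map (homOfLE hV₁).op (s₁ x.1 (hW x.2))) =
        Z.presheaf.map ((Opens.map i.base).map (homOfLE (hV₀.trans hW))).op t' := by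
      rw [map_sub, e₁, natural_c_apply, hs,
        map_map_apply Z.presheaf _ _ ((Opens.map i.base).map (homOfLE (hV₀.trans hW))),
        map_add, add_sub_cancel_left]
    change Y.presheaf.map _ (Y.presheaf.map _ _) = Y.presheaf.map _ _
    rw [map_map_apply Y.presheaf _ _ ((Opens.map f.base).map (homOfLE (hV₀.trans hW))),
      map_add, h _ _ _ e₁, h' _ _ _ e₂, map_sub, add_sub_cancel, natural_c_apply]

theorem isExt_one (hk : Kills i f) (U : Opens X.toTopCat) : IsExt i f U 1 1 := by
  intro W hW s hs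
  rw [map_one] at hs ⊢
  have := hk W (s - 1) (by rw [map_sub, hs, map_one, sub_self])
  rw [map_sub, map_one, sub_eq_zero] at this
  exact this.symm

theorem isExt_zero (hk : Kills i f) (U : Opens X.toTopCat) : IsExt i f U 0 0 := by
  intro W hW s hs
  rw [map_zero] at hs ⊢
  exact (hk W s hs).symm

variable (hk : Kills i f) (hi : LRSImm.IsClosedImmersion i)

/-- The comparison map. -/
def eta (U : Opens X.toTopCat) :
    Z.presheaf.obj (op ((Opens.map i.base).obj U)) ⟶
      Y.presheaf.obj (op ((Opens.map f.base).obj U)) :=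
  CommRingCat.ofHom
    { toFun := fun t => (isExt_exists hk hi U t).choose
      map_one' := isExt_unique hi (isExt_exists hk hi U _).choose_spec (isExt_one hk U)
      map_mul' := fun t t' => isExt_unique hi (isExt_exists hk hi U _).choose_spec
        (isExt_mul hk hi (isExt_exists hk hi U t).choose_spec (isExt_exists hk hi U t').choose_spec)
      map_zero' := isExt_unique hi (isExt_exists hk hi U _).choose_spec (isExt_zero hk U)
      map_add' := fun t t' => isExt_unique hi (isExt_exists hk hi U _).choose_spec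
        (isExt_add hk hi (isExt_exists hk hi U t).choose_spec
          (isExt_exists hk hi U t').choose_spec) }

theorem eta_spec (U : Opens X.toTopCat) (t : Z.presheaf.obj (op ((Opens.map i.base).obj U))) :
    IsExt i f U t (eta hk hi U t) :=
  (isExt_exists hk hi U t).choose_spec

theorem eta_c (U : Opens X.toTopCat) (s : X.presheaf.obj (op U)) :
    eta hk hi U (i.c.app (op U) s) = f.c.app (op U) s := by
  refine isExt_unique hi (eta_spec hk hi U _) fun W hW s' hs' => ?_
  rw [← natural_c_apply, ← sub_eq_zero, ← map_sub]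
  exact hk W _ (by rw [map_sub, natural_c_apply, hs', sub_self])

theorem eta_natural {U U' : Opens X.toTopCat} (h : U' ≤ U)
    (t : Z.presheaf.obj (op ((Opens.map i.base).obj U))) :
    eta hk hi U' (Z.presheaf.map ((Opens.map i.base).map (homOfLE h)).op t) =
      Y.presheaf.map ((Opens.map f.base).map (homOfLE h)).op (eta hk hi U t) := by
  refine isExt_unique hi (eta_spec hk hi U' _) fun W hW s hs => ?_
  rw [map_map_apply Y.presheaf _ _ ((Opens.map f.base).map (homOfLE (hW.trans h)))]
  refine eta_spec hk hi U t W _ s (hs.trans ?_)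
  exact map_map_apply _ _ _ _ _

/-- The largest open of `X` with preimage `V`. -/
def ext (V : Opens Z.toTopCat) : Opens X.toTopCat :=
  ⟨(i.base '' (V : Set Z.toTopCat)ᶜ)ᶜ,
    (hi.1.isClosedMap _ V.isOpen.isClosed_compl).isOpen_compl⟩

include hi in
theorem preimage_ext (V : Opens Z.toTopCat) : (Opens.map i.base).obj (ext hi V) = V := by
  ext z
  change ¬ (i.base z ∈ i.base '' (V : Set Z.toTopCat)ᶜ) ↔ z ∈ V
  rw [hi.1.injective.mem_set_image]
  exact not_not

include hi in
theorem ext_mono {V V' : Opens Z.toTopCat} (h : V ≤ V') : ext hi V ≤ ext hi V' :=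
  Set.compl_subset_compl.mpr (Set.image_mono (Set.compl_subset_compl.mpr h))

include hi in
theorem le_ext (U : Opens X.toTopCat) : U ≤ ext hi ((Opens.map i.base).obj U) := by
  rintro x hx ⟨z, hz, rfl⟩
  exact hz hx

include hk hi in
theorem gBase_exists : ∀ y : Y.toTopCat, ∃ z : Z.toTopCat, i.base z = f.base y :=
  fun y => hk.base_mem_range hi y

/-- The base of the factorisation. -/
def gBase : Y.toTopCat ⟶ Z.toTopCat :=
  TopCat.ofHom ⟨fun y => (gBase_exists hk hi y).choose, by
    rw [hi.1.isInducing.continuous_iff]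
    exact f.base.hom.continuous.congr fun y => (gBase_exists hk hi y).choose_spec.symm⟩

theorem i_gBase (y : Y.toTopCat) : i.base (gBase hk hi y) = f.base y :=
  (gBase_exists hk hi y).choose_spec

theorem preimage_gBase_le (V : Opens Z.toTopCat) :
    (Opens.map (gBase hk hi)).obj V ≤ (Opens.map f.base).obj (ext hi V) := by
  intro y hy
  change f.base y ∈ ext hi V
  rw [← i_gBase hk hi y]
  exact (preimage_ext hi V).ge hy

/-- The sheaf map of the factorisation. -/
def gC : Z.presheaf ⟶ (gBase hk hi) _* Y.presheaf where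
  app V := Z.presheaf.map (eqToHom (preimage_ext hi V.unop)).op ≫ eta hk hi (ext hi V.unop) ≫
    Y.presheaf.map (homOfLE (preimage_gBase_le hk hi V.unop)).op
  naturality V V' h := by
    obtain ⟨g, rfl⟩ : ∃ g, g.op = h := ⟨h.unop, rfl⟩
    ext t
    simp only [CommRingCat.hom_comp, RingHom.coe_comp, Function.comp_apply]
    rw [map_map_apply Z.presheaf (A := V.unop) g _
      (homOfLE ((preimage_ext hi V'.unop).le.trans g.le)),
      ← map_map_apply Z.presheaf (eqToHom (preimage_ext hi V.unop))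
      ((Opens.map i.base).map (homOfLE (ext_mono hi g.le))), eta_natural]
    rw [map_map_apply Y.presheaf _ _ (homOfLE ((preimage_gBase_le hk hi V'.unop).trans
        ((Opens.map f.base).map (homOfLE (ext_mono hi g.le))).le))]
    exact (map_map_apply Y.presheaf _ ((Opens.map (gBase hk hi)).map g) _ _).symm

/-- The factorisation as presheafed spaces. -/
def gPsh : Y.toPresheafedSpace ⟶ Z.toPresheafedSpace := ⟨gBase hk hi, gC hk hi⟩

theorem gPsh_comp : gPsh hk hi ≫ i.toHom = f.toHom := by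
  refine PresheafedSpace.ext _ _ (by ext y; exact i_gBase hk hi y) ?_
  ext U s
  change Y.presheaf.map _ (Y.presheaf.map _ (eta hk hi _ (Z.presheaf.map _ (i.c.app (op U) s)))) =
    f.c.app (op U) s
  have e : (Opens.map i.base).obj (ext hi ((Opens.map i.base).obj U)) =
      (Opens.map i.base).obj U := preimage_ext hi _
  have h3 := eta_natural hk hi (le_ext hi U) (Z.presheaf.map (eqToHom e).op (i.c.app (op U) s))
  rw [map_map_apply Z.presheaf _ _ (𝟙 _), op_id, Z.presheaf.map_id, CommRingCat.id_apply,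
    eta_c] at h3
  rw [h3]
  exact map_map_apply _ _ _ _ _

include hk hi in
theorem exists_fac : ∃ g : Y ⟶ Z, g ≫ i = f := by
  have hfac := gPsh_comp hk hi
  refine ⟨⟨gPsh hk hi, fun y => ⟨fun a ha => ?_⟩⟩, LocallyRingedSpace.Hom.ext' hfac⟩
  obtain ⟨b, rfl⟩ := stalkMap_surjective i hi ((gPsh hk hi).base y) a
  haveI : IsLocalHom ((gPsh hk hi ≫ i.toHom).stalkMap y).hom := by
    rw [hfac]; exact f.prop y
  rw [PresheafedSpace.stalkMap.comp] at this
  exact (this.map_nonunit b ha).map (i.stalkMap ((gPsh hk hi).base y)).hom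

include hi in
theorem exists_fac_iff : (∃ g : Y ⟶ Z, g ≫ i = f) ↔ Kills i f :=
  ⟨fun ⟨g, hg⟩ => hg ▸ kills_of_fac i g, fun h => exists_fac h hi⟩

include hi in
theorem fac_unique {g g' : Y ⟶ Z} (h : g ≫ i = g' ≫ i) : g = g' := by
  haveI := mono_of_isClosedImmersion i hi
  exact (cancel_mono i).mp h

end Groth.Agent.LRSImm94
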