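import Groth.Agent.LRSImm94.Fac
import Mathlib.AlgebraicGeometry.AffineScheme
import Mathlib.AlgebraicGeometry.GammaSpecAdjunction
import Mathlib.AlgebraicGeometry.Morphisms.ClosedImmersion
import Mathlib.RingTheory.Ideal.Quotient.Operations

/-!
# A locally ringed space with a closed immersion into a scheme is a scheme
-/

set_option autoImplicit false

universe u

open CategoryTheory TopologicalSpace Opposite AlgebraicGeometry

noncomputable section

namespace Groth.Agent.LRSImm94

/-- A morphism into an affine scheme killing an ideal factors through the quotient. -/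
theorem exists_fac_quotient {Y : LocallyRingedSpace.{u}} {A : CommRingCat.{u}} (I : Ideal A)
    (k : Y ⟶ (Spec A).toLocallyRingedSpace)
    (hk : ∀ a ∈ I, k.c.app (op ⊤) ((Scheme.ΓSpecIso A).inv a) = 0) :
    ∃ φ : Y ⟶ (Spec (CommRingCat.of (A ⧸ I))).toLocallyRingedSpace,
      φ ≫ (Spec.map (CommRingCat.ofHom (Ideal.Quotient.mk I))).toLRSHom = k := by
  let adj := ΓSpec.locallyRingedSpaceAdjunction
  let θ : A ⟶ LocallyRingedSpace.Γ.obj (op Y) :=
    ((adj.homEquiv Y (op A)).symm k).unop
  have hθ : ∀ a ∈ I, θ a = 0 := by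
    intro a ha
    exact hk a ha
  let θ' : CommRingCat.of (A ⧸ I) ⟶ LocallyRingedSpace.Γ.obj (op Y) :=
    CommRingCat.ofHom (Ideal.Quotient.lift I θ.hom hθ)
  have e : θ = CommRingCat.ofHom (Ideal.Quotient.mk I) ≫ θ' := by
    ext a; rfl
  refine ⟨adj.homEquiv Y (op (CommRingCat.of (A ⧸ I))) θ'.op, ?_⟩
  have h1 : adj.homEquiv Y (op A) θ.op = k := (adj.homEquiv Y (op A)).apply_symm_apply k
  rw [← h1, e, op_comp]
  exact (adj.homEquiv_naturality_right θ'.op (CommRingCat.ofHom (Ideal.Quotient.mk I)).op).symm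

variable {X : Scheme.{u}} {Z : LocallyRingedSpace.{u}} (i : Z ⟶ X.toLocallyRingedSpace)

theorem local_affine_of_isClosedImmersion (hi : LRSImm.IsClosedImmersion i) (z : Z.toTopCat) :
    ∃ (U : OpenNhds z) (R : CommRingCat.{u}),
      Nonempty (Z.restrict U.isOpenEmbedding ≅ Spec.toLocallyRingedSpace.obj (op R)) := by
  obtain ⟨U, hxU, ι, s, hs0, hspan⟩ := hi.2.2 (i.base z)
  obtain ⟨_, ⟨W, hW, rfl⟩, hxW, hWU⟩ :=
    X.isBasis_affineOpens.exists_subset_of_mem_open hxU U.isOpen
  replace hW : IsAffineOpen W := hW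
  let a : ι → Γ(X, W) := fun j => X.presheaf.map (homOfLE hWU).op (s j)
  let I : Ideal Γ(X, W) := Ideal.span (Set.range a)
  let mkI : Γ(X, W) ⟶ CommRingCat.of (Γ(X, W) ⧸ I) := CommRingCat.ofHom (Ideal.Quotient.mk I)
  haveI : IsClosedImmersion (Spec.map mkI) :=
    IsClosedImmersion.spec_of_surjective mkI Ideal.Quotient.mk_surjective
  let jS : Spec (CommRingCat.of (Γ(X, W) ⧸ I)) ⟶ X := Spec.map mkI ≫ hW.fromSpec
  have hrange : ∀ p, jS.base p ∈ W := fun p => by
    have : jS.base p ∈ Set.range hW.fromSpec.base := ⟨(Spec.map mkI).base p, rfl⟩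
    rw [hW.range_fromSpec] at this
    exact this
  -- `jS` factors through `i`
  have ha : ∀ j, jS.app W (a j) = 0 := by
    intro j
    change (Spec.map mkI).app (hW.fromSpec ⁻¹ᵁ W) (hW.fromSpec.app W (a j)) = 0
    rw [hW.fromSpec_app_self, CommRingCat.comp_apply]
    erw [NatTrans.naturality_apply (Spec.map mkI).c
      (eqToHom hW.fromSpec_preimage_self).op]
    have h0 : (Spec.map mkI).appTop ((Scheme.ΓSpecIso Γ(X, W)).inv (a j)) = 0 := by
      rw [← CommRingCat.comp_apply, ← Scheme.ΓSpecIso_inv_naturality, CommRingCat.comp_apply]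
      have : mkI (a j) = 0 := Ideal.Quotient.eq_zero_iff_mem.mpr (Ideal.subset_span ⟨j, rfl⟩)
      rw [this, map_zero]
    exact (congrArg _ h0).trans (map_zero _)
  have hkills : Kills i jS.toLRSHom := by
    intro V t ht
    refine TopCat.Presheaf.section_ext (Spec (CommRingCat.of (Γ(X, W) ⧸ I))).sheaf _ _ _
      fun p hp => ?_
    change (Spec _).presheaf.germ _ p hp _ = (Spec _).presheaf.germ _ p hp 0
    rw [map_zero]
    erw [← LocallyRingedSpace.stalkMap_germ_apply jS.toLRSHom V p hp t]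
    have hker : X.presheaf.germ V (jS.base p) hp t ∈
        Ideal.span (Set.range fun j => X.presheaf.germ U (jS.base p) (hWU (hrange p)) (s j)) := by
      erw [hspan]
      change ((TopCat.Presheaf.stalkFunctor CommRingCat (jS.base p)).map i.c) _ = 0
      exact (TopCat.Presheaf.stalkFunctor_map_germ_apply _ _ _ _ _).trans
        ((congrArg _ ht).trans (map_zero _))
    suffices Ideal.span (Set.range fun j => X.presheaf.germ U (jS.base p) (hWU (hrange p)) (s j))
        ≤ RingHom.ker (jS.stalkMap p).hom from this hker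
    rw [Ideal.span_le]
    rintro _ ⟨j, rfl⟩
    change jS.stalkMap p _ = 0
    have e : X.presheaf.germ U (jS.base p) (hWU (hrange p)) (s j) =
        X.presheaf.germ W (jS.base p) (hrange p) (a j) :=
      (TopCat.Presheaf.germ_res_apply _ _ _ _ _).symm
    exact (congrArg _ e).trans ((Scheme.Hom.germ_stalkMap_apply jS W p (hrange p) (a j)).trans
      ((congrArg _ (ha j)).trans (map_zero _)))
  obtain ⟨g, hg⟩ := exists_fac hkills hi
  -- the open piece of `Z`
  let V : OpenNhds z := ⟨(Opens.map i.base).obj W, hxW⟩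
  let incl : Z.restrict V.isOpenEmbedding ⟶ Z := Z.ofRestrict V.isOpenEmbedding
  haveI : LocallyRingedSpace.IsOpenImmersion hW.fromSpec.toLRSHom :=
    inferInstanceAs (IsOpenImmersion hW.fromSpec)
  have hr1 : Set.range (incl ≫ i).base ⊆ Set.range hW.fromSpec.toLRSHom.base := by
    rintro _ ⟨⟨w, hw⟩, rfl⟩
    have : i.base w ∈ Set.range hW.fromSpec.base := hW.range_fromSpec ▸ hw
    exact this
  let k := LocallyRingedSpace.IsOpenImmersion.lift hW.fromSpec.toLRSHom (incl ≫ i) hr1
  have hkfac : k ≫ hW.fromSpec.toLRSHom = incl ≫ i :=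
    LocallyRingedSpace.IsOpenImmersion.lift_fac _ _ hr1
  have hka : ∀ b ∈ I, k.c.app (op ⊤) ((Scheme.ΓSpecIso Γ(X, W)).inv b) = 0 := by
    intro b hb
    suffices I ≤ RingHom.ker ((Scheme.ΓSpecIso Γ(X, W)).inv ≫ k.c.app (op ⊤)).hom from this hb
    rw [Ideal.span_le]
    rintro _ ⟨j, rfl⟩
    change k.c.app (op ⊤) ((Scheme.ΓSpecIso Γ(X, W)).inv (a j)) = 0
    have h2 : (k ≫ hW.fromSpec.toLRSHom).c.app (op W) (a j) = 0 := by
      have h3 : (incl ≫ i).c.app (op W) (a j) = 0 := by
        change incl.c.app (op ((Opens.map i.base).obj W)) (i.c.app (op W) (a j)) = 0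
        exact (congrArg _ ((natural_c_apply i hWU (s j)).trans
          ((congrArg _ (hs0 j)).trans (map_zero _)))).trans (map_zero _)
      have h4 := PresheafedSpace.congr_app (congrArg LocallyRingedSpace.Hom.toHom hkfac) (op W)
      rw [show (k ≫ hW.fromSpec.toLRSHom).c.app (op W) = _ from h4]
      exact (congrArg _ h3).trans (RingHom.map_zero _)
    change k.c.app (op (hW.fromSpec ⁻¹ᵁ W)) (hW.fromSpec.app W (a j)) = 0 at h2
    rw [hW.fromSpec_app_self, CommRingCat.comp_apply] at h2
    erw [NatTrans.naturality_apply k.c (eqToHom hW.fromSpec_preimage_self).op] at h2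
    have hinj : Function.Injective ((Z.restrict V.isOpenEmbedding).presheaf.map
        ((Opens.map k.base).map (eqToHom hW.fromSpec_preimage_self)).op) :=
      (ConcreteCategory.bijective_of_isIso _).1
    exact hinj (h2.trans (map_zero _).symm)
  obtain ⟨φ, hφ⟩ := exists_fac_quotient I k hka
  have hφ' : φ ≫ jS.toLRSHom = incl ≫ i := by
    rw [← hkfac, ← hφ, Category.assoc]
    rfl
  have hr2 : Set.range g.base ⊆ Set.range incl.base := by
    rintro _ ⟨p, rfl⟩
    have : i.base (g.base p) = jS.base p :=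
      congrArg (fun m => m.base p) hg
    exact ⟨⟨g.base p, show i.base (g.base p) ∈ W from this ▸ hrange p⟩, rfl⟩
  let ψ := LocallyRingedSpace.IsOpenImmersion.lift incl g hr2
  have hψ : ψ ≫ incl = g := LocallyRingedSpace.IsOpenImmersion.lift_fac _ _ hr2
  haveI := mono_of_isClosedImmersion i hi
  refine ⟨V, CommRingCat.of (Γ(X, W) ⧸ I), ⟨{ hom := φ, inv := ψ, hom_inv_id := ?_, inv_hom_id := ?_ }⟩⟩
  · rw [← cancel_mono incl, ← cancel_mono i]
    have e1 : φ ≫ (ψ ≫ incl) ≫ i = incl ≫ i := by rw [hψ, hg]; exact hφ'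
    exact ((congrArg (· ≫ i) (Category.assoc φ ψ incl)).trans (Category.assoc φ _ i)).trans
      (e1.trans (congrArg (· ≫ i) (Category.id_comp incl).symm))
  · have h5 : (ψ ≫ φ) ≫ jS.toLRSHom = jS.toLRSHom := by
      rw [Category.assoc, hφ', ← Category.assoc, hψ, hg]
    have h6 : (Scheme.Hom.mk (ψ ≫ φ) : Spec (CommRingCat.of (Γ(X, W) ⧸ I)) ⟶ _) ≫ jS =
        𝟙 _ ≫ jS := by rw [Category.id_comp]; exact Scheme.Hom.ext' h5
    exact congrArg Scheme.Hom.toLRSHom ((cancel_mono jS).mp h6)

/-- The scheme structure on the source of a closed immersion into a scheme. -/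
def schemeOfIsClosedImmersion (hi : LRSImm.IsClosedImmersion i) : Scheme.{u} where
  toLocallyRingedSpace := Z
  local_affine := local_affine_of_isClosedImmersion i hi

theorem isClosedImmersion_schemeHom (hi : LRSImm.IsClosedImmersion i) :
    IsClosedImmersion (Scheme.Hom.mk i : schemeOfIsClosedImmersion i hi ⟶ X) := by
  exact { isClosedEmbedding := hi.1, stalkMap_surjective := stalkMap_surjective i hi }

end Groth.Agent.LRSImm94
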